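import Cfsg.Agent.H756.HM.Stmts

/-!
# S5175, SP: the interface between the fusion side (SP1, helper869) and the group side (SP2, helper124)

`SpCo S T V K θ` : coordinates of `S` (Sylow 2-subgroup of `PSp₄(K)` extended by the polarity), `θ² = Frobenius`.
`StSP2` : coordinates with `Aut_F(V)` of the standard form give `Concl F`.
-/

set_option autoImplicit false

namespace Cfsg.Agent.H124.SP

open Cfsg Cfsg.FusionSystem Cfsg.Agent.H756.HM

universe u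

/-- the relations of the Sylow 2-subgroup of `PSp₄(K)` extended by a polarity -/
structure SpRel (H : Type*) [Group H] (K : Type*) [Field K] (θ : K ≃+* K) where
  xa : K → H
  xb : K → H
  xc : K → H
  xd : K → H
  y : H
  xa_add : ∀ s t, xa (s + t) = xa s * xa t
  xb_add : ∀ s t, xb (s + t) = xb s * xb t
  xc_add : ∀ s t, xc (s + t) = xc s * xc t
  xd_add : ∀ s t, xd (s + t) = xd s * xd t
  ab : ∀ t u, xa t * xb u = xb u * xa t * xc (t * u) * xd (t ^ 2 * u)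
  ac : ∀ t v, xa t * xc v = xc v * xa t
  ad : ∀ t w, xa t * xd w = xd w * xa t
  bc : ∀ u v, xb u * xc v = xc v * xb u
  bd : ∀ u w, xb u * xd w = xd w * xb u
  cd : ∀ v w, xc v * xd w = xd w * xc v
  y_sq : y * y = 1
  ya : ∀ t, y * xa t * y = xb (θ t)
  yc : ∀ v, y * xc v * y = xd (θ v)

/-- coordinates of `S` -/
structure SpCo {Ω : Type*} [Group Ω] (S T V : Subgroup Ω) (K : Type*) [Field K] (θ : K ≃+* K) extends SpRel Ω K θ where
  inj : ∀ t u v w, xa t * xb u * xc v * xd w = 1 → t = 0 ∧ u = 0 ∧ v = 0 ∧ w = 0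
  y_mem : y ∈ S
  y_not : y ∉ T
  hS : ∀ g, g ∈ S ↔ ∃ t u v w, g = xa t * xb u * xc v * xd w ∨ g = xa t * xb u * xc v * xd w * y
  hT : ∀ g, g ∈ T ↔ ∃ t u v w, g = xa t * xb u * xc v * xd w
  hV : ∀ g, g ∈ V ↔ ∃ u v w, g = xb u * xc v * xd w

/-- `g ∘ φ` in coordinates: symmetric matrices `X = [[w, v], [v, u]]`, `X ↦ g φ(X) gᵀ`; the triple is `(u, v, w)` -/
def act {K : Type*} [Field K] (g : GL (Fin 2) K) (φ : K ≃+* K) (m : K × K × K) : K × K × K :=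
  (g 1 0 ^ 2 * φ m.2.2 + g 1 1 ^ 2 * φ m.1,
   g 0 0 * g 1 0 * φ m.2.2 + g 0 1 * g 1 1 * φ m.1 + (g 0 0 * g 1 1 + g 0 1 * g 1 0) * φ m.2.1,
   g 0 0 ^ 2 * φ m.2.2 + g 0 1 ^ 2 * φ m.1)

/-- the automorphism `α` of `V` is `X ↦ g φ(X) gᵀ` in the coordinates `co` -/
def IsAct {Ω : Type*} [Group Ω] {S T V : Subgroup Ω} {K : Type*} [Field K] {θ : K ≃+* K} (co : SpCo S T V K θ)
    (g : GL (Fin 2) K) (φ : K ≃+* K) (α : MulAut V) : Prop :=
  ∀ (u v w : K) (h : co.xb u * co.xc v * co.xd w ∈ V),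
    ((α ⟨co.xb u * co.xc v * co.xd w, h⟩ : V) : Ω) =
      co.xb (act g φ (u, v, w)).1 * co.xc (act g φ (u, v, w)).2.1 * co.xd (act g φ (u, v, w)).2.2

/-- SP2: coordinates for `S` and the standard form of `Aut_F(V)` give the conclusion. -/
def StSP2 : Prop :=
  ∀ {Ω : Type u} [Group Ω] {S : Subgroup Ω} [Finite S], IsPGroup 2 S →
    ∀ (F : FusionSystem S), F.IsSaturated 2 →
    ∀ (K : Type) [Field K] [Fintype K] (V T : Subgroup Ω) (x : Ω) (_ : Big F K V T x),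
    (∀ R : Subgroup Ω, F.IsEssential 2 R → R ≤ T) →
    ∀ (k : ℕ), 1 ≤ k → Fintype.card K = 2 ^ (2 * k + 1) →
    ∀ (θ : K ≃+* K), (∀ t, θ (θ t) = t ^ 2) → ∀ (co : SpCo S T V K θ) (Φ : Subgroup (K ≃+* K)),
    (∀ α : MulAut V, α ∈ F.autGroup V ↔ ∃ g : GL (Fin 2) K, ∃ φ ∈ Φ, IsAct co g φ α) →
    Concl F

end Cfsg.Agent.H124.SP
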