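import Cfsg.Agent.H311.SP.Concl

/-!
# S5175, SP: universe lift of the conclusion (helper124)
-/

set_option autoImplicit false

namespace Cfsg.Agent.H124.SP

open Cfsg

universe u

theorem concl_lift {G : Type} [Group G] [Finite G] (N M : Subgroup G) (hN : N.Normal) (hs : IsSimpleGroup N)
    (hna : ¬ IsMulCommutative N) (hc : Subgroup.centralizer (N : Set G) = ⊥) (hM : M.Normal) (hNM : N ≤ M)
    (hodd : Odd (N.relIndex M)) (h2 : M.index = 2) :
    Nonempty (↥(Cfsg.generalizedFittingSubgroup (ULift.{u} G)) ≃* ↥N) ∧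
      Cfsg.generalizedFittingSubgroup (ULift.{u} G) ≤ Cfsg.pResidual 2 (ULift.{u} G) ∧
      Odd ((Cfsg.generalizedFittingSubgroup (ULift.{u} G)).subgroupOf (Cfsg.pResidual 2 (ULift.{u} G))).index ∧
      (Cfsg.pResidual 2 (ULift.{u} G)).index = 2 := by
  let e : G ≃* ULift.{u} G := MulEquiv.ulift.{0, u}.symm
  set f : G →* ULift.{u} G := e.toMonoidHom with hf
  have hfi : Function.Injective f := e.injective
  have hfs : Function.Surjective f := e.surjective
  set N' := N.map f with hN'
  set M' := M.map f with hM'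
  let eN : N ≃* N' := N.equivMapOfInjective f hfi
  have hs' : IsSimpleGroup N' := by
    have : Nontrivial N' := eN.symm.toEquiv.nontrivial
    exact IsSimpleGroup.isSimpleGroup_of_surjective eN.toMonoidHom eN.surjective
  have hna' : ¬ IsMulCommutative N' := by
    intro h
    apply hna
    refine ⟨⟨fun a b => ?_⟩⟩
    apply eN.injective
    rw [map_mul, map_mul]
    exact h.is_comm.comm _ _
  have hc' : Subgroup.centralizer (N' : Set (ULift.{u} G)) = ⊥ := by
    rw [eq_bot_iff]
    intro g hg
    obtain ⟨g, rfl⟩ := hfs g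
    have h1 : g ∈ Subgroup.centralizer (N : Set G) := by
      rw [Subgroup.mem_centralizer_iff]
      intro n hn
      apply hfi
      rw [map_mul, map_mul]
      exact Subgroup.mem_centralizer_iff.1 hg _ ⟨n, hn, rfl⟩
    rw [hc, Subgroup.mem_bot] at h1
    rw [h1, map_one]; exact Subgroup.one_mem _
  have h3 := H311.SP.concl_of N' M' (hN.map f hfs) hs' hna' hc' (hM.map f hfs) (Subgroup.map_mono hNM)
    (by rw [hN', hM', Subgroup.relIndex_map_map_of_injective _ _ hfi]; exact hodd)
    (by rw [hM', Subgroup.index_map_of_bijective ⟨hfi, hfs⟩]; exact h2)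
  obtain ⟨a1, a2, a3, a4⟩ := h3
  rw [a1]
  exact ⟨⟨eN.symm⟩, a2, a3, a4⟩

end Cfsg.Agent.H124.SP
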