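import Cfsg.Agent.H124.SP.Main
import Cfsg.Agent.H124.SP.Lift

/-!
# S5175, SP: `StSP2` (helper124)
-/

set_option autoImplicit false
set_option linter.unusedSectionVars false

namespace Cfsg.Agent.H124.SP

open Matrix Cfsg Cfsg.FusionSystem Cfsg.Agent.ClassicalGeometry.Sp4Graph Cfsg.Agent.H802 Cfsg.Agent.H756.HM

universe u

section

variable {Ω : Type*} [Group Ω] {S T V : Subgroup Ω} {K : Type*} [Field K] [CharP K 2] [Finite K] {θ : K ≃+* K}
  {hθ : ∀ t, θ (θ t) = t ^ 2} {Φ : Subgroup (K ≃+* K)}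

theorem ut_zero : ut (0 : K) = 1 := by
  apply Units.ext
  rw [ut_coe, Units.val_one, Matrix.one_fin_two]

theorem XA_zero : XA (0 : K) = 1 := by
  unfold XA
  rw [ut_zero, lev_one]

theorem wd_zero (co : SpCo S T V K θ) (u v w : K) : co.wd 0 u v w = co.xb u * co.xc v * co.xd w := by
  unfold SpRel.wd
  rw [SpRel.xa_zero, one_mul]

theorem V_le (co : SpCo S T V K θ) : V ≤ S := by
  intro g hg
  obtain ⟨u, v, w, rfl⟩ := (co.hV g).1 hg
  rw [co.hS]
  exact ⟨0, u, v, w, Or.inl (by rw [SpRel.xa_zero, one_mul])⟩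

namespace Emb

variable {co : SpCo S T V K θ} {ι : S →* GG θ hθ Φ} (e : Emb co hθ Φ ι)
include e

theorem w0 (u v w : K) (h : co.xb u * co.xc v * co.xd w ∈ S) :
    ι ⟨co.xb u * co.xc v * co.xd w, h⟩ = SemidirectProduct.inl (up (u, v, w)) := by
  have h1 : co.wd 0 u v w ∈ S := by rw [wd_zero]; exact h
  have h2 := e.w1 0 u v w h1
  rw [XA_zero, one_mul] at h2
  rw [← h2]
  congr 1
  exact Subtype.ext (wd_zero co u v w).symm

/-- the automizer of `V` in the system realized by `ι` -/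
theorem aut_iff {F : FusionSystem S} (hF : F.IsRealizedBy ι) (α : MulAut V) :
    α ∈ F.autGroup V ↔ ∃ g : GL (Fin 2) K, ∃ φ ∈ Φ, IsAct co g φ α := by
  have hVS : V ≤ S := V_le co
  rw [mem_autGroup_iff F hVS, hF.2 V hVS _ (fun v => hVS (α v).2)]
  have hmem : ∀ u v w, co.xb u * co.xc v * co.xd w ∈ V := fun u v w => (co.hV _).2 ⟨u, v, w, rfl⟩
  constructor
  · rintro ⟨g, hg⟩
    have key : ∀ n : K × K × K, ∃ m : K × K × K,
        g * SemidirectProduct.inl (up n) * g⁻¹ = SemidirectProduct.inl (up m) ∧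
        ((α ⟨co.xb n.1 * co.xc n.2.1 * co.xd n.2.2, hmem _ _ _⟩ : V) : Ω) = co.xb m.1 * co.xc m.2.1 * co.xd m.2.2 := by
      rintro ⟨u, v, w⟩
      have h1 := hg ⟨co.xb u * co.xc v * co.xd w, hmem _ _ _⟩
      rw [e.w0] at h1
      obtain ⟨u', v', w', h2⟩ := (co.hV _).1 (α ⟨co.xb u * co.xc v * co.xd w, hmem _ _ _⟩).2
      refine ⟨(u', v', w'), ?_, h2⟩
      rw [← h1, ← e.w0 u' v' w' (hVS (hmem _ _ _))]
      congr 1
      exact Subtype.ext h2
    obtain ⟨P, m, φ, hφ, hl, hr⟩ := exists_of_normal g (fun n => (key n).imp fun m hm => hm.1)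
    refine ⟨P, φ, hφ, ?_⟩
    intro u v w h
    obtain ⟨m', h1, h2⟩ := key (u, v, w)
    rw [conj_up hl hr] at h1
    have h3 := up_injective (SemidirectProduct.inl_injective h1)
    rw [h3]
    exact h2
  · rintro ⟨P, φ, hφ, hact⟩
    let g : GG θ hθ Φ := ⟨lev P, ⟨fld φ, φ, hφ, Or.inl rfl⟩⟩
    have hl : g.left = lev P * up (0, 0, 0) := by
      have : up ((0, 0, 0) : K × K × K) = 1 := by
        have h1 := up_add ((0, 0, 0) : K × K × K) (0, 0, 0)
        rw [Prod.mk_add_mk, Prod.mk_add_mk, add_zero] at h1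
        exact left_eq_mul.1 h1
      rw [this, mul_one]
    refine ⟨g, ?_⟩
    rintro ⟨v, hv⟩
    obtain ⟨a, b, c, rfl⟩ := (co.hV v).1 hv
    have h1 := hact a b c hv
    show ι ⟨((α ⟨co.xb a * co.xc b * co.xd c, hv⟩ : V) : Ω), _⟩ = g * ι ⟨co.xb a * co.xc b * co.xd c, _⟩ * g⁻¹
    rw [e.w0, conj_up hl rfl, ← e.w0 _ _ _ (hVS (hmem _ _ _))]
    congr 1
    exact Subtype.ext h1

end Emb

/-- `H¹` vanishes -/
theorem free_of_co [Finite S] {x : Ω} (tf : TF S T V x) (co : SpCo S T V K θ) :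
    ∀ z ∈ V ⊓ cj x V, z * (x * z * x⁻¹) = 1 → ∃ d ∈ V ⊓ cj x V, z = d * (x * d * x⁻¹)⁻¹ := by
  -- `x` and `y` act in the same way on the centre of `T`
  obtain ⟨t, ht, hyt⟩ := tf.eq_mul co.y_mem co.y_not
  have hxy : ∀ z : Ω, (∀ s ∈ T, s * z = z * s) → x * z * x⁻¹ = co.y * z * co.y := by
    intro z hz
    have h1 : co.y = (co.y)⁻¹ := co.y_inv.symm
    conv_rhs => rw [show co.y * z * co.y = co.y * z * co.y⁻¹ by rw [co.y_inv]]
    rw [hyt]
    have h2 := hz t ht
    calc x * z * x⁻¹ = x * (z * t) * t⁻¹ * x⁻¹ := by group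
      _ = x * (t * z) * t⁻¹ * x⁻¹ := by rw [h2]
      _ = x * t * z * (x * t)⁻¹ := by group
  have hcen : ∀ z ∈ V ⊓ cj x V, ∀ s ∈ T, s * z = z * s := by
    intro z hz s hs
    obtain ⟨v, hv, w, hw, rfl⟩ := tf.exists_mul hs
    have h1 := tf.comm hv hz.1
    have h2 := tf.comm_W hw hz.2
    calc v * w * z = v * (w * z) := by group
      _ = v * z * w := by rw [h2]; group
      _ = z * (v * w) := by rw [h1]; group
  intro z hz hzz
  obtain ⟨u, v, w, rfl⟩ := (co.hV z).1 hz.1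
  -- `u = 0`
  have hxa : co.xa 1 ∈ T := (co.hT _).2 ⟨1, 0, 0, 0, by rw [SpRel.xb_zero, SpRel.xc_zero, SpRel.xd_zero]; simp⟩
  have hu : u = 0 := by
    have h1 := hcen _ hz _ hxa
    have h2 : co.xa 1 * (co.xb u * co.xc v * co.xd w) = co.wd 1 u v w := by
      unfold SpRel.wd; group
    have h3 : co.xb u * co.xc v * co.xd w * co.xa 1 = co.wd 1 u (v + u) (w + u) := by
      have h4 := co.wd_xa 0 u v w 1
      rw [wd_zero, zero_add, one_mul, one_pow, one_mul] at h4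
      exact h4
    rw [h2, h3] at h1
    have h5 : co.wd 1 u (v + u) (w + u) = co.wd 1 u v w * co.wd 0 0 u u := by
      rw [wd_zero, SpRel.xb_zero, one_mul, ← mul_assoc, co.wd_xc, co.wd_xd]
    rw [h5] at h1
    have h6 := left_eq_mul.1 h1
    exact (co.inj 0 0 u u h6).2.2.1
  subst hu
  rw [SpRel.xb_zero, one_mul] at hz hzz ⊢
  -- the equation
  have h1 := hxy _ (hcen _ hz)
  have h2 : co.y * (co.xc v * co.xd w) * co.y = co.xd (θ v) * co.xc (θ.symm w) := by
    calc co.y * (co.xc v * co.xd w) * co.y = (co.y * co.xc v) * co.xd w * co.y := by group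
      _ = co.xd (θ v) * (co.y * co.xd w) * co.y := by rw [co.yc']; group
      _ = co.xd (θ v) * co.xc (θ.symm w) * (co.y * co.y) := by rw [co.yd']; group
      _ = _ := by rw [co.y_sq, mul_one]
  rw [h1, h2] at hzz
  have h3 : co.xc v * co.xd w * (co.xd (θ v) * co.xc (θ.symm w)) = co.wd 0 0 (v + θ.symm w) (w + θ v) := by
    rw [wd_zero, SpRel.xb_zero, one_mul, co.xc_add, co.xd_add]
    have e1 := co.cd (θ.symm w) (w + θ v)
    rw [co.xd_add] at e1
    have e2 := co.cd (θ.symm w) (θ v)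
    have e3 := co.cd (θ.symm w) w
    calc co.xc v * co.xd w * (co.xd (θ v) * co.xc (θ.symm w)) = co.xc v * co.xd w * (co.xc (θ.symm w) * co.xd (θ v)) := by rw [e2]
      _ = co.xc v * (co.xd w * co.xc (θ.symm w)) * co.xd (θ v) := by group
      _ = co.xc v * (co.xc (θ.symm w) * co.xd w) * co.xd (θ v) := by rw [e3]
      _ = _ := by group
  rw [h3] at hzz
  have h4 := (co.inj 0 0 _ _ hzz).2.2.2
  have h5 : w = θ v := by
    have := CharTwo.add_eq_zero.1 h4
    exact this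
  -- the element
  have hd1 : co.xc v ∈ V := (co.hV _).2 ⟨0, v, 0, by rw [SpRel.xb_zero, SpRel.xd_zero]; simp⟩
  have hdc : ∀ s ∈ T, s * co.xc v = co.xc v * s := by
    intro s hs
    obtain ⟨a, b, c, d, rfl⟩ := (co.hT s).1 hs
    have e1 := co.ac a v
    have e2 := co.bc b v
    have e4 := co.cd v d
    have e3 : co.xc c * co.xc v = co.xc v * co.xc c := by rw [← co.xc_add, ← co.xc_add, add_comm]
    calc co.xa a * co.xb b * co.xc c * co.xd d * co.xc v = co.xa a * co.xb b * co.xc c * (co.xd d * co.xc v) := by group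
      _ = co.xa a * co.xb b * (co.xc c * co.xc v) * co.xd d := by rw [← e4]; group
      _ = co.xa a * (co.xb b * co.xc v) * co.xc c * co.xd d := by rw [e3]; group
      _ = (co.xa a * co.xc v) * co.xb b * co.xc c * co.xd d := by rw [e2]; group
      _ = _ := by rw [e1]; group
  have hd2 : co.xc v ∈ cj x V := by
    rw [← tf.cent_W]
    exact ⟨V_le co hd1, Subgroup.mem_centralizer_iff.2 fun g hg => hdc g (tf.W_le hg)⟩
  refine ⟨co.xc v, ⟨hd1, hd2⟩, ?_⟩
  rw [hxy _ hdc, co.yc, co.xd_inv, h5]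

end

/-- the realization in a group of the universe -/
theorem realized_ulift {Ω : Type u} [Group Ω] {S : Subgroup Ω} {G : Type} [Group G] {F : FusionSystem S} {ι : S →* G}
    (h : F.IsRealizedBy ι) : F.IsRealizedBy ((MulEquiv.ulift.{0, u}.symm : G ≃* ULift.{u} G).toMonoidHom.comp ι) := by
  refine ⟨fun a b hab => h.1 ((MulEquiv.ulift.{0, u}.symm : G ≃* ULift.{u} G).injective hab), fun P hP φ hφ => ?_⟩
  rw [h.2 P hP φ hφ]
  constructor
  · rintro ⟨g, hg⟩
    refine ⟨ULift.up g, fun x => ?_⟩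
    show ULift.up (ι _) = ULift.up g * ULift.up (ι _) * (ULift.up g)⁻¹
    rw [hg x]; rfl
  · rintro ⟨g, hg⟩
    refine ⟨g.down, fun x => ?_⟩
    exact congrArg ULift.down (hg x)

theorem stSP2 (hEss : StEss.{u}) (hEssT : StEssT.{u}) : StSP2.{u} := by
  intro Ω _ S _ hS F hF K _ _ V T x b hess k hk hK θ hθ co Φ hΦ
  have hch : CharP K 2 := H311.SP.charP_two hK
  have h2 : Fact (Nat.Prime 2) := ⟨Nat.prime_two⟩
  have hodd : Odd (2 * k + 1) := ⟨k, rfl⟩
  have hΦo : Odd (Nat.card Φ) := H311.SP.odd_card_subgroup hK hodd Φ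
  obtain ⟨m, hm, hcard⟩ := H311.SP.card_sp4 hK
  obtain ⟨ι, e⟩ := exists_emb co hθ Φ
  have hcG : Nat.card (GG θ hθ Φ) = Nat.card S * (m * Nat.card Φ) := by
    rw [card_GG, e.card_S, hcard, Nat.card_eq_fintype_card (α := K)]; ring
  have hmo : Odd (m * Nat.card Φ) := hm.mul hΦo
  obtain ⟨P, hP⟩ := exists_sylow hS e.inj hmo hcG
  have hreal := H781.pullback_isRealizedBy ι e.inj
  have hsat := H781.isSaturated_of_isRealizedBy hreal P hP
  have hV : F.autGroup V = (H781.pullback ι e.inj).autGroup V := by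
    ext α
    rw [hΦ, e.aut_iff hreal]
  have hq : Fintype.card K ≠ 4 := by
    rw [hK]
    intro h
    have h3 : (2 : ℕ) ^ (2 * k + 1) = 2 ^ 2 := by rw [h]; norm_num
    have := Nat.pow_right_injective (le_refl 2) h3
    omega
  have hEq : F = H781.pullback ι e.inj :=
    eq_of_big_free hEssT hS hF hsat b hV hess
      (ess_le hEss hS hsat (bigTransport b _ hV) hq) (free_of_co (tf_of_big b) co)
  have hr2 : F.IsRealizedBy ι := by rw [hEq]; exact hreal
  have hsimp : IsSimpleGroup (NN0 θ hθ Φ) := by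
    have h3 : IsSimpleGroup (X K) := H311.SP.simple_sp4 hK b.q4
    let e1 : X K ≃* NN0 θ hθ Φ := MonoidHom.ofInjective (SemidirectProduct.inl_injective (φ := (DD θ hθ Φ).subtype))
    have : Nontrivial (NN0 θ hθ Φ) := e1.symm.toEquiv.nontrivial
    exact IsSimpleGroup.isSimpleGroup_of_surjective e1.toMonoidHom e1.surjective
  have hna : ¬ IsMulCommutative (NN0 θ hθ Φ) := by
    intro h3
    apply H311.SP.not_comm_sp4 hK b.q4
    refine ⟨⟨fun A B => ?_⟩⟩
    have h4 : (⟨_, A, rfl⟩ * ⟨_, B, rfl⟩ : NN0 θ hθ Φ) = ⟨_, B, rfl⟩ * ⟨_, A, rfl⟩ := h3.is_comm.comm _ _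
    have h5 : (SemidirectProduct.inl A * SemidirectProduct.inl B : GG θ hθ Φ) = SemidirectProduct.inl B * SemidirectProduct.inl A :=
      congrArg Subtype.val h4
    rw [← map_mul, ← map_mul] at h5
    exact SemidirectProduct.inl_injective h5
  obtain ⟨⟨e2⟩, c1, c2, c3⟩ := concl_lift.{u} (NN0 θ hθ Φ) (MM0 θ hθ Φ) NN0_normal hsimp hna centralizer_inl
    MM0_normal NN0_le (by rw [NN0_relIndex]; exact hΦo) MM0_index
  let e1 : X K ≃* NN0 θ hθ Φ := MonoidHom.ofInjective (SemidirectProduct.inl_injective (φ := (DD θ hθ Φ).subtype))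
  obtain ⟨P', hP'⟩ := exists_sylow (G := ULift.{u} (GG θ hθ Φ)) hS (realized_ulift hr2).1 hmo
    (by rw [Nat.card_ulift]; exact hcG)
  exact ⟨ULift.{u} (GG θ hθ Φ), inferInstance, inferInstance, _, realized_ulift hr2, ⟨P', hP'⟩,
    Or.inr (Or.inr (Or.inr (Or.inr (Or.inr ⟨K, inferInstance, inferInstance,
      Or.inr ⟨⟨(e2.trans e1.symm).trans (H311.SP.spEquiv hK)⟩, 2 * k + 1, hodd, hK⟩, c1, c2, c3⟩))))⟩

end Cfsg.Agent.H124.SP
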