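import Cfsg.Agent.H124.SP.Mat

/-!
# S5175, SP: the group `G = Sp₄(K) ⋊ D` (helper124)
-/

set_option autoImplicit false
set_option linter.unusedSectionVars false

namespace Cfsg.Agent.H124.SP

open Matrix Cfsg Cfsg.Agent.ClassicalGeometry.Sp4Graph

/-- The automorphism group of a finite field is commutative. -/
theorem ringAut_comm {F : Type*} [Field F] [Finite F] (σ τ : F ≃+* F) : σ * τ = τ * σ := by
  obtain ⟨g, hg⟩ := IsCyclic.exists_generator (α := Fˣ)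
  have key : ∀ σ : F ≃+* F, ∃ n : ℕ, ∀ x : F, x ≠ 0 → σ x = x ^ n := by
    intro σ
    obtain ⟨n, hn⟩ := (mem_powers_iff_mem_zpowers (x := g)).2 (hg (Units.map (σ : F →* F) g))
    refine ⟨n, fun x hx => ?_⟩
    obtain ⟨m, hm⟩ := (mem_powers_iff_mem_zpowers (x := g)).2 (hg (Units.mk0 x hx))
    have h1 : x = (g : F) ^ m := by
      have := congrArg (fun u : Fˣ => (u : F)) hm
      simpa using this.symm
    have h2 : σ (g : F) = (g : F) ^ n := by
      have := congrArg (fun u : Fˣ => (u : F)) hn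
      simpa using this.symm
    rw [h1, map_pow, h2, ← pow_mul, ← pow_mul, mul_comm]
  obtain ⟨a, ha⟩ := key σ
  obtain ⟨b, hb⟩ := key τ
  apply RingEquiv.ext
  intro x
  show σ (τ x) = τ (σ x)
  by_cases hx : x = 0
  · rw [hx]; simp
  · rw [hb x hx, ha x hx, map_pow, map_pow, ha x hx, hb x hx, ← pow_mul, ← pow_mul, mul_comm]

variable {K : Type*} [Field K]

theorem map_mem (φ : K ≃+* K) {A : Matrix I4 I4 K} (hA : A ∈ Matrix.symplecticGroup (Fin 2) K) :
    A.map φ ∈ Matrix.symplecticGroup (Fin 2) K := by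
  rw [SymplecticGroup.mem_iff] at hA ⊢
  have h1 := congrArg (fun M : Matrix I4 I4 K => M.map φ) hA
  have h2 : (J (Fin 2) K).map φ = J (Fin 2) K := by
    ext i j
    rcases i with i | i <;> rcases j with j | j <;> simp [J, Matrix.one_apply]
  have h1' : (A * J (Fin 2) K * Aᵀ).map φ = J (Fin 2) K := h1.trans h2
  have h3 : ∀ M N : Matrix I4 I4 K, (M * N).map φ = M.map φ * N.map φ := fun M N => Matrix.map_mul (f := (φ : K →+* K))
  rw [h3, h3, h2] at h1'
  exact h1'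

/-- field automorphism -/
def fld (φ : K ≃+* K) : MulAut (X K) where
  toFun A := ⟨(A : Matrix I4 I4 K).map φ, map_mem φ A.2⟩
  invFun A := ⟨(A : Matrix I4 I4 K).map φ.symm, map_mem φ.symm A.2⟩
  left_inv A := by apply Subtype.ext; ext i j; simp
  right_inv A := by apply Subtype.ext; ext i j; simp
  map_mul' A B := Subtype.ext (Matrix.map_mul (f := (φ : K →+* K)))

theorem fld_apply (φ : K ≃+* K) (A : X K) (i j : I4) :
    ((fld φ A : X K) : Matrix I4 I4 K) i j = φ ((A : Matrix I4 I4 K) i j) := rfl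

theorem fld_mul (φ ψ : K ≃+* K) : fld (φ * ψ) = fld φ * fld ψ := rfl

theorem fld_one : fld (1 : K ≃+* K) = 1 := rfl

theorem fld_inv (φ : K ≃+* K) : fld φ⁻¹ = (fld φ)⁻¹ := rfl

theorem fld_up (φ : K ≃+* K) (m : K × K × K) : fld φ (up m) = up (φ m.1, φ m.2.1, φ m.2.2) := by
  apply Subtype.ext
  ext i j
  rw [fld_apply]
  show φ ((fromBlocks 1 (sym m) 0 1 : Matrix I4 I4 K) i j) = (fromBlocks 1 (sym (φ m.1, φ m.2.1, φ m.2.2)) 0 1 : Matrix I4 I4 K) i j
  rcases i with i | i <;> rcases j with j | j <;> fin_cases i <;> fin_cases j <;> simp [sym]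

variable [CharP K 2]

theorem fld_XA (φ : K ≃+* K) (t : K) : fld φ (XA t) = XA (φ t) := by
  apply Subtype.ext
  ext i j
  rw [fld_apply, lev_ut_coe, lev_ut_coe]
  rcases i with i | i <;> rcases j with j | j <;> fin_cases i <;> fin_cases j <;> simp

theorem graph_fld (φ : K ≃+* K) (A : X K) : graphHom K (fld φ A) = fld φ (graphHom K A) := by
  apply Subtype.ext
  ext i j
  rw [fld_apply, graphHom_coe, graphHom_coe, mn_apply, mn_apply]
  simp only [fld_apply, map_add, map_mul]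

variable [Finite K]

/-- the polarity -/
noncomputable def tau (θ : K ≃+* K) : MulAut (X K) := graphEquiv K * fld θ⁻¹

theorem tau_apply (θ : K ≃+* K) (A : X K) : tau θ A = graphHom K (fld θ⁻¹ A) := rfl

theorem tau_tau {θ : K ≃+* K} (hθ : ∀ t, θ (θ t) = t ^ 2) (A : X K) : tau θ (tau θ A) = A := by
  rw [tau_apply, tau_apply, ← graph_fld, ]
  apply Subtype.ext
  ext i j
  rw [graphHom_graphHom, fld_apply, fld_apply, ← hθ]
  show θ (θ (θ.symm (θ.symm _))) = _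
  simp

theorem tau_sq {θ : K ≃+* K} (hθ : ∀ t, θ (θ t) = t ^ 2) : tau θ * tau θ = 1 :=
  MulEquiv.ext (tau_tau hθ)

theorem tau_fld (θ φ : K ≃+* K) : tau θ * fld φ = fld φ * tau θ := by
  apply MulEquiv.ext
  intro A
  rw [MulAut.mul_apply, MulAut.mul_apply, tau_apply, tau_apply, ← graph_fld]
  congr 1
  have h1 : θ⁻¹ * φ = φ * θ⁻¹ := ringAut_comm _ _
  show (fld θ⁻¹ * fld φ) A = (fld φ * fld θ⁻¹) A
  rw [← fld_mul, ← fld_mul, h1]

theorem sq_theta {θ : K ≃+* K} (hθ : ∀ t, θ (θ t) = t ^ 2) (t : K) : (θ⁻¹ t) ^ 2 = θ t := by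
  rw [← hθ]
  show θ (θ (θ.symm t)) = θ t
  rw [RingEquiv.apply_symm_apply]

theorem tau_XA {θ : K ≃+* K} (hθ : ∀ t, θ (θ t) = t ^ 2) (t : K) : tau θ (XA t) = XB (θ t) := by
  rw [tau_apply, fld_XA, graph_XA, sq_theta hθ]

theorem tau_XC {θ : K ≃+* K} (hθ : ∀ t, θ (θ t) = t ^ 2) (t : K) : tau θ (XC t) = XD (θ t) := by
  have h1 : fld θ⁻¹ (XC t) = XC (θ⁻¹ t) := by
    unfold XC
    rw [fld_up]; simp
  rw [tau_apply, h1, graph_XC, sq_theta hθ]

/-- the group of outer automorphisms -/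
noncomputable def DD (θ : K ≃+* K) (hθ : ∀ t, θ (θ t) = t ^ 2) (Φ : Subgroup (K ≃+* K)) : Subgroup (MulAut (X K)) where
  carrier := {δ | ∃ φ ∈ Φ, δ = fld φ ∨ δ = fld φ * tau θ}
  one_mem' := ⟨1, Φ.one_mem, Or.inl fld_one.symm⟩
  mul_mem' := by
    rintro a b ⟨φ, hφ, rfl | rfl⟩ ⟨ψ, hψ, rfl | rfl⟩
    · exact ⟨φ * ψ, Φ.mul_mem hφ hψ, Or.inl (fld_mul φ ψ).symm⟩
    · exact ⟨φ * ψ, Φ.mul_mem hφ hψ, Or.inr (by rw [fld_mul, mul_assoc])⟩
    · exact ⟨φ * ψ, Φ.mul_mem hφ hψ, Or.inr (by rw [mul_assoc, tau_fld, ← mul_assoc, fld_mul])⟩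
    · exact ⟨φ * ψ, Φ.mul_mem hφ hψ, Or.inl (by
        rw [mul_assoc, ← mul_assoc (tau θ), tau_fld, mul_assoc (fld ψ), tau_sq hθ, mul_one, fld_mul])⟩
  inv_mem' := by
    rintro a ⟨φ, hφ, rfl | rfl⟩
    · exact ⟨φ⁻¹, Φ.inv_mem hφ, Or.inl rfl⟩
    · refine ⟨φ⁻¹, Φ.inv_mem hφ, Or.inr ?_⟩
      rw [_root_.mul_inv_rev, fld_inv, inv_eq_of_mul_eq_one_left (tau_sq hθ)]
      have := tau_fld θ φ⁻¹
      rw [fld_inv] at this
      exact this

theorem mem_DD {θ : K ≃+* K} {hθ : ∀ t, θ (θ t) = t ^ 2} {Φ : Subgroup (K ≃+* K)} {δ : MulAut (X K)} :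
    δ ∈ DD θ hθ Φ ↔ ∃ φ ∈ Φ, δ = fld φ ∨ δ = fld φ * tau θ := Iff.rfl

/-- the group `G` -/
abbrev GG (θ : K ≃+* K) (hθ : ∀ t, θ (θ t) = t ^ 2) (Φ : Subgroup (K ≃+* K)) :=
  SemidirectProduct (X K) (DD θ hθ Φ) (DD θ hθ Φ).subtype

/-- the element `τ` of `D` -/
noncomputable def tauD (θ : K ≃+* K) (hθ : ∀ t, θ (θ t) = t ^ 2) (Φ : Subgroup (K ≃+* K)) : DD θ hθ Φ :=
  ⟨tau θ, 1, Φ.one_mem, Or.inr (by rw [fld_one, one_mul])⟩

theorem conj_inl {θ : K ≃+* K} {hθ : ∀ t, θ (θ t) = t ^ 2} {Φ : Subgroup (K ≃+* K)} (g : GG θ hθ Φ) (A : X K) :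
    g * SemidirectProduct.inl A * g⁻¹ = SemidirectProduct.inl (g.left * (g.right : MulAut (X K)) A * g.left⁻¹) := by
  apply SemidirectProduct.ext
  · simp
  · simp

theorem XA_XC (s t : K) : XA s * XC t = XC t * XA s := by
  have h := XA_up s (0, t, 0)
  simp only [mul_zero, zero_add] at h
  exact h

theorem XA_XD (s t : K) : XA s * XD t = XD t * XA s := by
  have h := XA_up s (0, 0, t)
  simp only [mul_zero, add_zero] at h
  exact h

/-- generators of `G` -/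
noncomputable def relG (θ : K ≃+* K) (hθ : ∀ t, θ (θ t) = t ^ 2) (Φ : Subgroup (K ≃+* K)) : SpRel (GG θ hθ Φ) K θ where
  xa t := SemidirectProduct.inl (XA t)
  xb t := SemidirectProduct.inl (XB t)
  xc t := SemidirectProduct.inl (XC t)
  xd t := SemidirectProduct.inl (XD t)
  y := SemidirectProduct.inr (tauD θ hθ Φ)
  xa_add s t := by
    rw [← map_mul]; congr 1
    unfold XA
    rw [ut_add, lev_mul]
  xb_add s t := by
    rw [← map_mul]; congr 1
    unfold XB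
    rw [← up_add]; simp
  xc_add s t := by
    rw [← map_mul]; congr 1
    unfold XC
    rw [← up_add]; simp
  xd_add s t := by
    rw [← map_mul]; congr 1
    unfold XD
    rw [← up_add]; simp
  ab s t := by
    rw [← map_mul, ← map_mul, ← map_mul, ← map_mul]; congr 1
    have h3 := XA_up s (t, 0, 0)
    rw [up_eq (t, s * t + 0, 0 + s ^ 2 * t)] at h3
    simp only [add_zero, zero_add] at h3
    rw [mul_assoc (XB t), XA_XC, ← mul_assoc, mul_assoc _ (XA s), XA_XD, ← mul_assoc]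
    exact h3
  ac s t := by rw [← map_mul, ← map_mul, XA_XC]
  ad s t := by rw [← map_mul, ← map_mul, XA_XD]
  bc s t := by rw [← map_mul, ← map_mul]; congr 1; exact up_comm _ _
  bd s t := by rw [← map_mul, ← map_mul]; congr 1; exact up_comm _ _
  cd s t := by rw [← map_mul, ← map_mul]; congr 1; exact up_comm _ _
  y_sq := by
    rw [← map_mul]
    have : tauD θ hθ Φ * tauD θ hθ Φ = 1 := Subtype.ext (tau_sq hθ)
    rw [this, map_one]
  ya t := by
    have h1 := SemidirectProduct.inl_aut (φ := (DD θ hθ Φ).subtype) (tauD θ hθ Φ) (XA t)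
    have h2 : (tauD θ hθ Φ)⁻¹ = tauD θ hθ Φ := inv_eq_of_mul_eq_one_left (Subtype.ext (tau_sq hθ))
    rw [h2] at h1
    rw [← h1]
    congr 1
    exact tau_XA hθ t
  yc t := by
    have h1 := SemidirectProduct.inl_aut (φ := (DD θ hθ Φ).subtype) (tauD θ hθ Φ) (XC t)
    have h2 : (tauD θ hθ Φ)⁻¹ = tauD θ hθ Φ := inv_eq_of_mul_eq_one_left (Subtype.ext (tau_sq hθ))
    rw [h2] at h1
    rw [← h1]
    congr 1
    exact tau_XC hθ t

end Cfsg.Agent.H124.SP
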