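import Cfsg.Agent.H124.SP.Words
import Cfsg.Agent.ClassicalGeometry.Sp4GraphAut

/-!
# S5175, SP: the matrices (helper124)
-/

set_option autoImplicit false
set_option linter.unusedSectionVars false

namespace Cfsg.Agent.H124.SP

open Matrix Cfsg Cfsg.Agent.ClassicalGeometry.Sp4Graph

variable {K : Type*} [Field K] [CharP K 2]

/-- `Sp₄(K)` -/
abbrev X (K : Type*) [Field K] := ↥(Matrix.symplecticGroup (Fin 2) K)

/-- the symmetric matrix -/
def sym (m : K × K × K) : Matrix (Fin 2) (Fin 2) K := !![m.2.2, m.2.1; m.2.1, m.1]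

omit [CharP K 2] in
theorem sym_transpose (m : K × K × K) : (sym m)ᵀ = sym m := by
  ext i j; fin_cases i <;> fin_cases j <;> rfl

omit [CharP K 2] in
theorem sym_add (m m' : K × K × K) : sym (m + m') = sym m + sym m' := by
  ext i j; fin_cases i <;> fin_cases j <;> rfl

omit [CharP K 2] in
theorem mem_of_blocks {A B C D : Matrix (Fin 2) (Fin 2) K} (h1 : B * Aᵀ = A * Bᵀ) (h2 : D * Cᵀ = C * Dᵀ)
    (h3 : A * Dᵀ - B * Cᵀ = 1) : fromBlocks A B C D ∈ Matrix.symplecticGroup (Fin 2) K := by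
  rw [SymplecticGroup.mem_iff]
  have h4 : D * Aᵀ - C * Bᵀ = 1 := by
    have := congrArg Matrix.transpose h3
    simpa [Matrix.transpose_sub, Matrix.transpose_mul] using this
  simp only [J, fromBlocks_transpose, fromBlocks_multiply]
  congr 1
  · simp [h1]
  · simp only [mul_zero, mul_one, zero_add, add_zero, mul_neg, neg_mul]
    rw [← h3]; abel
  · simp only [mul_zero, mul_one, zero_add, add_zero, mul_neg, neg_mul]
    rw [← h4]; abel
  · simp [h2]

/-- the element `[[1, X], [0, 1]]` -/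
def up (m : K × K × K) : X K := ⟨fromBlocks 1 (sym m) 0 1, mem_of_blocks (by simp [sym_transpose]) (by simp) (by simp)⟩

/-- the element `[[P, 0], [0, P^{-T}]]` -/
def lev (P : GL (Fin 2) K) : X K :=
  ⟨fromBlocks (P : Matrix (Fin 2) (Fin 2) K) 0 0 ((P⁻¹ : GL (Fin 2) K) : Matrix (Fin 2) (Fin 2) K)ᵀ,
    mem_of_blocks (by simp) (by simp) (by
      simp only [Matrix.transpose_transpose, Matrix.transpose_zero, mul_zero, sub_zero]
      rw [← Units.val_mul, mul_inv_cancel]; rfl)⟩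

theorem up_add (m m' : K × K × K) : up (m + m') = up m * up m' := by
  apply Subtype.ext
  show fromBlocks 1 (sym (m + m')) 0 1 = fromBlocks 1 (sym m) 0 1 * fromBlocks 1 (sym m') 0 1
  rw [fromBlocks_multiply, sym_add]
  simp [add_comm]

theorem lev_mul (P Q : GL (Fin 2) K) : lev (P * Q) = lev P * lev Q := by
  apply Subtype.ext
  show fromBlocks _ _ _ _ = fromBlocks _ _ _ _ * fromBlocks _ _ _ _
  rw [fromBlocks_multiply]
  simp [_root_.mul_inv_rev, Matrix.transpose_mul]

theorem lev_one : lev (1 : GL (Fin 2) K) = 1 := by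
  apply Subtype.ext
  show fromBlocks _ _ _ _ = (1 : Matrix I4 I4 K)
  simp

theorem sym_act (P : GL (Fin 2) K) (m : K × K × K) :
    sym (act P 1 m) = (P : Matrix (Fin 2) (Fin 2) K) * sym m * (P : Matrix (Fin 2) (Fin 2) K)ᵀ := by
  have h2 : (2 : K) = 0 := CharTwo.two_eq_zero
  obtain ⟨u, v, w⟩ := m
  have e1 : ((1 : K ≃+* K) u) = u := rfl
  have e2 : ((1 : K ≃+* K) v) = v := rfl
  have e3 : ((1 : K ≃+* K) w) = w := rfl
  ext i j
  fin_cases i <;> fin_cases j <;>
    simp [sym, act, Matrix.mul_apply, Fin.sum_univ_two, e1, e2, e3]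
  · linear_combination (-(P 0 0 : K) * P 0 1 * v) * h2
  · ring
  · ring
  · linear_combination (-(P 1 0 : K) * P 1 1 * v) * h2

theorem lev_up (P : GL (Fin 2) K) (m : K × K × K) : lev P * up m = up (act P 1 m) * lev P := by
  apply Subtype.ext
  show fromBlocks _ _ _ _ * fromBlocks _ _ _ _ = fromBlocks _ _ _ _ * fromBlocks _ _ _ _
  rw [fromBlocks_multiply, fromBlocks_multiply, sym_act]
  have h1 : (P : Matrix (Fin 2) (Fin 2) K)ᵀ * ((P⁻¹ : GL (Fin 2) K) : Matrix (Fin 2) (Fin 2) K)ᵀ = 1 := by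
    rw [← Matrix.transpose_mul, ← Units.val_mul, inv_mul_cancel]; simp
  simp only [mul_zero, zero_mul, mul_one, one_mul, add_zero, zero_add]
  rw [mul_assoc _ _ (((P⁻¹ : GL (Fin 2) K) : Matrix (Fin 2) (Fin 2) K)ᵀ), h1, mul_one]

/-- upper unitriangular -/
def ut (t : K) : GL (Fin 2) K := Matrix.GeneralLinearGroup.mk' !![1, t; 0, 1] (by
  have : (!![1, t; 0, 1] : Matrix (Fin 2) (Fin 2) K).det = 1 := by simp [Matrix.det_fin_two]
  rw [this]; exact invertibleOne)

theorem ut_coe (t : K) : ((ut t : GL (Fin 2) K) : Matrix (Fin 2) (Fin 2) K) = !![1, t; 0, 1] := rfl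

theorem ut_add (s t : K) : ut (s + t) = ut s * ut t := by
  apply Units.ext
  rw [Units.val_mul, ut_coe, ut_coe, ut_coe]
  simp [Matrix.mul_fin_two, add_comm]

theorem ut_inv (t : K) : (ut t)⁻¹ = ut t := by
  apply inv_eq_of_mul_eq_one_left
  rw [← ut_add, CharTwo.add_self_eq_zero]
  apply Units.ext
  rw [ut_coe, Units.val_one, Matrix.one_fin_two]

theorem act_ut (t : K) (m : K × K × K) : act (ut t) 1 m = (m.1, t * m.1 + m.2.1, m.2.2 + t ^ 2 * m.1) := by
  obtain ⟨u, v, w⟩ := m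
  have e1 : ((1 : K ≃+* K) u) = u := rfl
  have e2 : ((1 : K ≃+* K) v) = v := rfl
  have e3 : ((1 : K ≃+* K) w) = w := rfl
  simp [act, ut_coe, e1, e2, e3]

def XA (t : K) : X K := lev (ut t)
def XB (t : K) : X K := up (t, 0, 0)
def XC (t : K) : X K := up (0, t, 0)
def XD (t : K) : X K := up (0, 0, t)

theorem up_comm (m m' : K × K × K) : up m * up m' = up m' * up m := by
  rw [← up_add, ← up_add, add_comm]

theorem up_eq (m : K × K × K) : up m = XB m.1 * XC m.2.1 * XD m.2.2 := by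
  unfold XB XC XD
  rw [← up_add, ← up_add]
  simp

theorem XA_up (t : K) (m : K × K × K) : XA t * up m = up (m.1, t * m.1 + m.2.1, m.2.2 + t ^ 2 * m.1) * XA t := by
  unfold XA
  rw [lev_up, act_ut]

theorem lev_ut_coe (t : K) : (XA t : Matrix I4 I4 K) = fromBlocks !![1, t; 0, 1] 0 0 !![1, 0; t, 1] := by
  show fromBlocks _ _ _ _ = _
  rw [ut_inv, ut_coe]
  congr 1
  ext i j; fin_cases i <;> fin_cases j <;> rfl

theorem graph_XA (t : K) : graphHom K (XA t) = XB (t ^ 2) := by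
  apply Subtype.ext
  have h2 : (2 : K) = 0 := CharTwo.two_eq_zero
  have hadd : ∀ z : K, z + z = 0 := CharTwo.add_self_eq_zero
  rw [graphHom_coe, lev_ut_coe]
  show _ = fromBlocks 1 (sym (t ^ 2, 0, 0)) 0 1
  ext i j
  rw [mn_apply]
  rcases i with i | i <;> rcases j with j | j <;> fin_cases i <;> fin_cases j <;>
      simp [pa, pb, sym, hadd, sq]

theorem graph_XB (t : K) : graphHom K (XB t) = XA t := by
  apply Subtype.ext
  have h2 : (2 : K) = 0 := CharTwo.two_eq_zero
  have hadd : ∀ z : K, z + z = 0 := CharTwo.add_self_eq_zero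
  rw [graphHom_coe, lev_ut_coe]
  show mn (fromBlocks 1 (sym (t, 0, 0)) 0 1) = _
  ext i j
  rw [mn_apply]
  rcases i with i | i <;> rcases j with j | j <;> fin_cases i <;> fin_cases j <;>
      simp [pa, pb, sym, hadd, sq]

theorem graph_XC (t : K) : graphHom K (XC t) = XD (t ^ 2) := by
  apply Subtype.ext
  have h2 : (2 : K) = 0 := CharTwo.two_eq_zero
  have hadd : ∀ z : K, z + z = 0 := CharTwo.add_self_eq_zero
  rw [graphHom_coe]
  show mn (fromBlocks 1 (sym (0, t, 0)) 0 1) = fromBlocks 1 (sym (0, 0, t ^ 2)) 0 1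
  ext i j
  rw [mn_apply]
  rcases i with i | i <;> rcases j with j | j <;> fin_cases i <;> fin_cases j <;>
      simp [pa, pb, sym, hadd, sq]

theorem graph_XD (t : K) : graphHom K (XD t) = XC t := by
  apply Subtype.ext
  have h2 : (2 : K) = 0 := CharTwo.two_eq_zero
  have hadd : ∀ z : K, z + z = 0 := CharTwo.add_self_eq_zero
  rw [graphHom_coe]
  show mn (fromBlocks 1 (sym (0, 0, t)) 0 1) = fromBlocks 1 (sym (0, t, 0)) 0 1
  ext i j
  rw [mn_apply]
  rcases i with i | i <;> rcases j with j | j <;> fin_cases i <;> fin_cases j <;>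
      simp [pa, pb, sym, hadd, sq]

end Cfsg.Agent.H124.SP
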